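import Groth.Agent.NeutralSchLib.Global
import Groth.Agent.ConsLib.General
import Groth.Agent.DvrDom.Scheme
import Groth.Agent.SpecSubLib.More
import Groth.Agent.AlgSpRegLib.LocFinComp
import Groth.Agent.FinHomLib.Affine

/-!
# The torsion component set of a commutative group scheme is open
-/

set_option autoImplicit false
set_option backward.isDefEq.respectTransparency false
set_option maxHeartbeats 400000

noncomputable section

universe u

open CategoryTheory CategoryTheory.Limits MonoidalCategory CartesianMonoidalCategory AlgebraicGeometry Topology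
open TopologicalSpace
open scoped CategoryTheory.MonObj CategoryTheory.GrpObj
open Groth.Agent.HomogDense Groth.Agent.GrpField Groth.Agent.NeutralSch

namespace Groth.Agent.TauSetLib

variable {S : Scheme.{u}} (G : Over S) [GrpObj G]

/-- The points some positive power of which lies in the union of the neutral components. -/
def tauSet : Set G.left := {x | ∃ n : ℕ, 0 < n ∧ ((𝟙 G : G ⟶ G) ^ n).left.base x ∈ SGA3x.neutralSet G}

variable {G}

/-- Powers of the identity act by powers on points. -/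
theorem pow_apply {Y : Over S} (P : Y ⟶ G) (n : ℕ) (y : Y.left) :
    (P ^ n).left y = ((𝟙 G : G ⟶ G) ^ n).left (P.left y) := by
  rw [← Scheme.Hom.comp_apply, ← Over.comp_left, MonObj.comp_pow, Category.comp_id]

theorem pow_mem {Y : Over S} (P : Y ⟶ G) (y : Y.left) (h : P.left y ∈ SGA3x.neutralSet G) :
    ∀ j : ℕ, (P ^ j).left y ∈ SGA3x.neutralSet G
  | 0 => by rw [pow_zero, one_left_apply]; exact us_mem _
  | j + 1 => by rw [pow_succ]; exact mul_mem _ _ y (pow_mem P y h j) h

variable (A : Type u) [CommRing A] [IsDomain A] [IsNoetherianRing A] [IsLocalRing A] {K : Type u} [Field K]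
  [Algebra A K]

/-- If the closed point of a section over a Noetherian local domain lies in the neutral component, so does
a power of the generic one. -/
theorem exists_pow_generic [LocallyOfFiniteType G.hom] (g : Spec (CommRingCat.of A) ⟶ S)
    (P : Over.mk g ⟶ G) (hP : P.left (IsLocalRing.closedPoint A) ∈ SGA3x.neutralSet G)
    (q : Spec (CommRingCat.of K)) :
    ∃ m : ℕ, 0 < m ∧
      (P ^ m).left (Spec.map (CommRingCat.ofHom (algebraMap A K)) q) ∈ SGA3x.neutralSet G := by
  let Y : Over S := Over.mk g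
  let c : Spec (CommRingCat.of A) := IsLocalRing.closedPoint A
  let T : Over S := Over.mk (Spec.map (CommRingCat.ofHom (algebraMap A K)) ≫ g)
  let e : T ⟶ Y := Over.homMk (Spec.map (CommRingCat.ofHom (algebraMap A K))) rfl
  haveI : IsLocallyNoetherian (Spec (CommRingCat.of A)) := inferInstance
  haveI : IsLocallyNoetherian (Spec (CommRingCat.of K)) := inferInstance
  haveI : CompactSpace (Spec (CommRingCat.of A)) := inferInstance
  haveI : LocallyOfFiniteType (Red.bc g G).hom := MorphismProperty.pullback_snd G.hom g inferInstance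
  haveI : LocallyOfFinitePresentation (Red.bc g G).hom :=
    LocallyOfFinitePresentation.iff_locallyOfFiniteType.2 inferInstance
  obtain ⟨U, hUc, hUN⟩ := exists_qc_open (G := Red.bc g G)
  let U' : (G ⊗ Y).left.Opens := U
  have hsec : ∀ j : ℕ, (lift (P ^ j) (𝟙 Y)).left c ∈ U' := fun j => hUN (by
    rw [neutralSet_bc]
    show (fst G Y).left ((lift (P ^ j) (𝟙 Y)).left c) ∈ SGA3x.neutralSet G
    rw [← Scheme.Hom.comp_apply, ← Over.comp_left, lift_fst]
    exact pow_mem P _ hP j)
  haveI : QuasiCompact e.left := by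
    show QuasiCompact (Spec.map (CommRingCat.ofHom (algebraMap A K)))
    infer_instance
  haveI : QuasiCompact (G ◁ e).left :=
    MorphismProperty.of_isPullback (P := @QuasiCompact) (FinHom.isPullback_whiskerLeft G e).flip ‹_›
  let W : (G ⊗ T).left.Opens := (G ◁ e).left ⁻¹ᵁ U'
  have hWc : IsCompact (W : Set (G ⊗ T).left) :=
    QuasiCompact.isCompact_preimage (f := (G ◁ e).left) _ U'.2 hUc
  haveI : IsLocallyNoetherian (G ⊗ T).left := by
    haveI : LocallyOfFiniteType (pullback.snd G.hom T.hom) := MorphismProperty.pullback_snd _ _ inferInstance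
    haveI : IsLocallyNoetherian T.left := inferInstanceAs (IsLocallyNoetherian (Spec (CommRingCat.of K)))
    exact LocallyOfFiniteType.isLocallyNoetherian (pullback.snd G.hom T.hom)
  haveI : CompactSpace (Scheme.Opens.toScheme W) := isCompact_iff_compactSpace.1 hWc
  haveI : IsNoetherian (Scheme.Opens.toScheme W) := ⟨⟩
  have hfin : (AlgSpRegLib.maxPts (G ⊗ T).left ∩ W).Finite :=
    (AlgSpRegLib.finite_opens_iff W).1
      (TopologicalSpace.NoetherianSpace.finite_irreducibleComponents (α := (Scheme.Opens.toScheme W)))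
  obtain ⟨θ, hθ, hθ'⟩ : ∃ θ : ↥(G ⊗ T).left, IsMaxPt θ ∧
      ∀ w, ((fst G T).left w ∈ SGA3x.neutralSet G ↔ θ ⤳ w) := exists_top (G := G) T.hom
  let a : T ⟶ G := e ≫ P
  let ψ : ℕ → (G ⊗ T ≅ G ⊗ T) := fun j => tr (a ^ j)
  have hθ1 : θ ⤳ (lift (1 : T ⟶ G) (𝟙 T)).left q :=
    (hθ' _).1 (by rw [← Scheme.Hom.comp_apply, ← Over.comp_left, lift_fst, one_left_apply]; exact us_mem _)
  have hψ : ∀ j : ℕ, (ψ j).hom.left θ ⤳ (lift (a ^ j) (𝟙 T)).left q := fun j => by
    have := hθ1.map (ψ j).hom.left.continuous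
    rwa [← Scheme.Hom.comp_apply, ← Over.comp_left, sec_tr, mul_one] at this
  have hW : ∀ j : ℕ, (lift (a ^ j) (𝟙 T)).left q ∈ W := fun j => by
    show (G ◁ e).left ((lift (a ^ j) (𝟙 T)).left q) ∈ U'
    have h1 : lift (a ^ j) (𝟙 T) ≫ G ◁ e = e ≫ lift (P ^ j) (𝟙 Y) :=
      CartesianMonoidalCategory.hom_ext _ _ (by simp [a, MonObj.comp_pow]) (by simp)
    rw [← Scheme.Hom.comp_apply, ← Over.comp_left, h1, Over.comp_left, Scheme.Hom.comp_apply]
    refine ((IsLocalRing.specializes_closedPoint (R := A) _).map (lift (P ^ j) (𝟙 Y)).left.continuous).mem_open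
      U'.2 (hsec j)
  have hmem : ∀ j : ℕ, (ψ j).hom.left θ ∈ AlgSpRegLib.maxPts (G ⊗ T).left ∩ W := fun j =>
    ⟨isMax_homeo' (Scheme.homeoOfIso ((Over.forget _).mapIso (ψ j))) hθ, (hψ j).mem_open W.2 (hW j)⟩
  haveI := hfin.to_subtype
  obtain ⟨i, j, hij, he⟩ := Finite.exists_ne_map_eq_of_infinite
    (fun j : ℕ => (⟨_, hmem j⟩ : ↥(AlgSpRegLib.maxPts (G ⊗ T).left ∩ W)))
  wlog hlt : i < j generalizing i j with H
  · exact H j i hij.symm he.symm (by omega)
  refine ⟨j - i, by omega, ?_⟩
  have he' : (ψ i).hom.left θ = (ψ j).hom.left θ := congrArg Subtype.val he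
  have h2 : (ψ i).hom.left θ ⤳ (lift (a ^ j) (𝟙 T)).left q := by rw [he']; exact hψ j
  have h3 := h2.map (ψ i).inv.left.continuous
  rw [← Scheme.Hom.comp_apply, ← Over.comp_left, Iso.hom_inv_id, ← Scheme.Hom.comp_apply (f := (lift (a ^ j) (𝟙 T)).left),
    ← Over.comp_left] at h3
  have h4 : lift (a ^ j) (𝟙 T) ≫ (ψ i).inv = lift ((a ^ i)⁻¹ * a ^ j) (𝟙 T) :=
    CartesianMonoidalCategory.hom_ext _ _ (by simp [ψ, tr, MonObj.comp_mul, GrpObj.comp_inv]) (by simp [ψ, tr])
  rw [h4] at h3
  have h5 := (hθ' _).2 h3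
  rw [← Scheme.Hom.comp_apply, ← Over.comp_left, lift_fst] at h5
  have h6 : (a ^ i)⁻¹ * a ^ j = e ≫ P ^ (j - i) := by
    rw [inv_mul_eq_iff_eq_mul, MonObj.comp_pow, ← pow_add, Nat.add_sub_cancel' hlt.le]
  rwa [h6] at h5

/-- The torsion component set is stable under generalisation. -/
theorem stableUnderGeneralization_tauSet [IsLocallyNoetherian S] [LocallyOfFiniteType G.hom] :
    StableUnderGeneralization (tauSet G) := by
  intro y x hyx ⟨n, hn, hy⟩
  rcases eq_or_ne y x with rfl | hne
  · exact ⟨n, hn, hy⟩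
  haveI : IsLocallyNoetherian G.left := LocallyOfFiniteType.isLocallyNoetherian G.hom
  obtain ⟨A, h, hA, hc, hh⟩ := DvrDomLib.exists_dvr_through_specialization (𝟙 G.left) x y hyx hne
  haveI := hA
  let g : Spec (CommRingCat.of A) ⟶ S := h ≫ G.hom
  let P₀ : Over.mk g ⟶ G := Over.homMk h rfl
  have hP : (P₀ ^ n).left (IsLocalRing.closedPoint A) ∈ SGA3x.neutralSet G := by
    rw [pow_apply]
    show ((𝟙 G : G ⟶ G) ^ n).left (h (IsLocalRing.closedPoint A)) ∈ SGA3x.neutralSet G
    rw [hc]
    exact hy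
  obtain ⟨m, hm, hmm⟩ := exists_pow_generic (K := ↥(G.left.residueField x)) A g (P₀ ^ n) hP
    (IsLocalRing.closedPoint _)
  refine ⟨n * m, Nat.mul_pos hn hm, ?_⟩
  rw [← pow_mul, pow_apply] at hmm
  have e : P₀.left (Spec.map (CommRingCat.ofHom (algebraMap A (G.left.residueField x))) (IsLocalRing.closedPoint _)) = x := by
    refine Eq.trans ?_ (Scheme.fromSpecResidueField_apply x (IsLocalRing.closedPoint (G.left.residueField x)))
    rw [← Category.comp_id (G.left.fromSpecResidueField x), ← hh, Scheme.Hom.comp_apply]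
    rfl
  rwa [e] at hmm

/-- **The torsion component set is open.** -/
theorem isOpen_tauSet [IsLocallyNoetherian S] [LocallyOfFiniteType G.hom] : IsOpen (tauSet G) := by
  haveI : IsLocallyNoetherian G.left := LocallyOfFiniteType.isLocallyNoetherian G.hom
  haveI : LocallyOfFinitePresentation G.hom :=
    LocallyOfFinitePresentation.iff_locallyOfFiniteType.2 inferInstance
  haveI : QuasiSeparated G.hom := QuasiSeparated.of_comp G.hom (terminal.from S)
  have hd : ∀ d : ℕ, IsLocallyConstructible (((𝟙 G : G ⟶ G) ^ d).left.base ⁻¹' SGA3x.neutralSet G) :=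
    fun d => ConsLib.isLocallyConstructible_preimage _ isLocallyConstructible_neutralSet
  rw [isOpen_iff_forall_mem_open]
  intro x hx
  obtain ⟨W, hW, hxW, -⟩ : ∃ W : G.left.Opens, IsAffineOpen W ∧ x ∈ W ∧ True := by
    obtain ⟨_, ⟨W, hW, rfl⟩, hxW, -⟩ :=
      G.left.isBasis_affineOpens.exists_subset_of_mem_open (Set.mem_univ x) isOpen_univ
    exact ⟨W, hW, hxW, trivial⟩
  haveI : IsAffine (Scheme.Opens.toScheme W) := hW
  haveI : SpectralSpace (Scheme.Opens.toScheme W) := {}
  have hcons : IsOpen[constructibleTopology (Scheme.Opens.toScheme W)] (W.ι ⁻¹' tauSet G) := by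
    have : W.ι ⁻¹' tauSet G = ⋃ (d : ℕ) (_ : 0 < d), W.ι ⁻¹' (((𝟙 G : G ⟶ G) ^ d).left.base ⁻¹' SGA3x.neutralSet G) := by
      ext z; simp [tauSet]
    rw [this]
    exact @isOpen_iUnion _ _ (constructibleTopology (Scheme.Opens.toScheme W)) _ fun d =>
      @isOpen_iUnion _ _ (constructibleTopology (Scheme.Opens.toScheme W)) _ fun _ =>
        (ProConsLib.isClopen_cons_of_isConstructible
          ((hd d).preimage_of_isOpenEmbedding W.ι.isOpenEmbedding).isConstructible).2
  have ho := SpecSubLib.isOpen_of_stableUnderGeneralization hcons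
    (fun a b hab ha => stableUnderGeneralization_tauSet (hab.map W.ι.continuous) ha)
  exact ⟨W.ι '' (W.ι ⁻¹' tauSet G), Set.image_preimage_subset _ _, W.ι.isOpenEmbedding.isOpenMap _ ho,
    ⟨⟨x, hxW⟩, hx, rfl⟩⟩

end Groth.Agent.TauSetLib
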